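import Groth.Prelude.Def_RedSub
import Groth.Agent.FpqcDescLib.Closed
import Groth.Agent.SmoothSecLib.Basic
import Groth.Agent.HensSec7.Smooth
import Groth.Agent.Hensel.FiniteEtaleLift
import Groth.Agent.SrcDescent.SchemeFppf
import Mathlib.AlgebraicGeometry.Morphisms.LocalFlatDescent

/-!
# Torsors under smooth groups over henselian local rings

Properties local for the flat topology pass from a group to its torsors; a smooth scheme with non-empty closed
fibre over a henselian local ring has a point in a finite étale extension.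
-/

universe u

open CategoryTheory CategoryTheory.Limits MonoidalCategory CartesianMonoidalCategory MonObj GrpObj AlgebraicGeometry
open IsLocalRing
open scoped TensorProduct

namespace Groth.Agent.RedTorsorSec

open Groth.Agent.FpqcDescLib

theorem property_of_torsor {S : Scheme.{u}} {G X : Over S} [GrpObj G] (P : MorphismProperty Scheme.{u})
    [P.IsStableUnderBaseChange] [IsZariskiLocalAtTarget P]
    [P.DescendsAlong (@Surjective ⊓ @Flat ⊓ @QuasiCompact)] {a : AlgGrp.Action G X}
    (ha : RedSub.IsTorsor a) (hG : P G.hom) : P X.hom := by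
  obtain ⟨_, _, _, h4⟩ := ha
  have hc : Covers X.hom := covers_of_isCovering (isCovering_of_lfp _)
  refine hc.descends P X.hom (pullback.snd X.hom X.hom) (pullback.fst X.hom X.hom)
    (IsPullback.of_hasPullback X.hom X.hom).flip ?_
  let e : G ⊗ X ⟶ X ⊗ X := lift a.act (snd G X)
  have : IsIso e := h4
  have : IsIso e.left := (Over.forget S).map_isIso e
  let e' : pullback G.hom X.hom ⟶ pullback X.hom X.hom := e.left
  have : IsIso e' := ‹IsIso e.left›
  have he : e' ≫ pullback.snd X.hom X.hom = pullback.snd G.hom X.hom :=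
    congrArg CommaMorphism.left (lift_snd a.act (snd G X))
  have := MorphismProperty.pullback_snd (P := P) G.hom X.hom hG
  rwa [← he, P.cancel_left_of_respectsIso] at this

theorem henselianLocalRing_of_henselianRing (B : Type u) [CommRing B] [IsLocalRing B]
    [HenselianRing B (maximalIdeal B)] : HenselianLocalRing B where
  is_henselian f hf a₀ h₁ h₂ :=
    HenselianRing.is_henselian f hf a₀ h₁ (h₂.map (Ideal.Quotient.mk (maximalIdeal B)))

theorem exists_finite_etale_point {A : Type u} [CommRing A] [HenselianLocalRing A]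
    {X : Scheme.{u}} (p : X ⟶ Spec (CommRingCat.of A)) [Smooth p] [Surjective p] :
    ∃ (S' : Scheme.{u}) (f : S' ⟶ Spec (CommRingCat.of A)), IsFinite f ∧ Etale f ∧ Surjective f ∧
      ∃ u : S' ⟶ X, u ≫ p = f := by
  let i₀ : Spec (CommRingCat.of (ResidueField A)) ⟶ Spec (CommRingCat.of A) :=
    Spec.map (CommRingCat.ofHom (residue A))
  have : Surjective (pullback.snd p i₀) := MorphismProperty.pullback_snd _ _ inferInstance
  obtain ⟨x, -⟩ := (pullback.snd p i₀).surjective (IsLocalRing.closedPoint (ResidueField A))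
  obtain ⟨k', _, _, hfin, hsep, t, ht, -⟩ :=
    SmoothSecLib.exists_separable_point (pullback.snd p i₀) ⊤ (x := x) trivial
  let I : Ideal A := maximalIdeal A
  letI : Algebra (A ⧸ I) k' := ‹Algebra (ResidueField A) k'›
  haveI : Module.Finite (A ⧸ I) k' := hfin
  haveI : Algebra.Etale (A ⧸ I) k' := show Algebra.Etale (ResidueField A) k' from
    { formallyEtale := Algebra.FormallyEtale.of_isSeparable (ResidueField A) k'
      finitePresentation := Algebra.FinitePresentation.of_finiteType.mp inferInstance }
  obtain ⟨B, _, _, hB, hBe, ⟨φ⟩⟩ := Hensel.exists_finite_etale_lift I k'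
  let q : B →+* k' := φ.toAlgHom.toRingHom.comp
    (Algebra.TensorProduct.includeRight : B →ₐ[A] (A ⧸ I) ⊗[A] B).toRingHom
  have hq : ∀ b : B, q b = φ (1 ⊗ₜ b) := fun b => rfl
  have hqs : Function.Surjective q := fun y => by
    obtain ⟨z, rfl⟩ := φ.surjective y
    suffices h : ∃ b : B, z = (1 : A ⧸ I) ⊗ₜ[A] b by
      obtain ⟨b, rfl⟩ := h
      exact ⟨b, rfl⟩
    induction z using TensorProduct.induction_on with
    | zero => exact ⟨0, (TensorProduct.tmul_zero _ _).symm⟩
    | tmul c b =>
      obtain ⟨r, rfl⟩ := Ideal.Quotient.mk_surjective c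
      exact ⟨r • b, by
        rw [← TensorProduct.smul_tmul, Algebra.smul_def, _root_.mul_one, Ideal.Quotient.algebraMap_eq]⟩
    | add z w hz hw =>
      obtain ⟨b, rfl⟩ := hz
      obtain ⟨c, rfl⟩ := hw
      exact ⟨b + c, (TensorProduct.tmul_add _ _ _).symm⟩
  have hle : I.map (algebraMap A B) ≤ RingHom.ker q := by
    rw [Ideal.map_le_iff_le_comap]
    intro r hr
    show q (algebraMap A B r) = 0
    rw [hq, Algebra.algebraMap_eq_smul_one, ← TensorProduct.smul_tmul, Algebra.smul_def, _root_.mul_one,
      Ideal.Quotient.algebraMap_eq, Ideal.Quotient.eq_zero_iff_mem.mpr hr, TensorProduct.zero_tmul, map_zero]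
  have hker : RingHom.ker q = I.map (algebraMap A B) := by
    refine le_antisymm (fun b hb => ?_) hle
    have h0 : (1 : A ⧸ I) ⊗ₜ[A] b = 0 := φ.injective (by rw [← hq, map_zero]; exact hb)
    have := congrArg (Algebra.TensorProduct.comm A B (A ⧸ I)).symm h0
    rw [map_zero, Algebra.TensorProduct.comm_symm, Algebra.TensorProduct.comm_tmul] at this
    have h2 := congrArg (Algebra.TensorProduct.quotIdealMapEquivTensorQuot B I).symm this
    rwa [map_zero, ← map_one (Ideal.Quotient.mk I), Algebra.TensorProduct.quotIdealMapEquivTensorQuot_symm_tmul, one_smul,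
      Submodule.Quotient.mk_eq_zero] at h2
  have hm : (RingHom.ker q).IsMaximal := RingHom.ker_isMaximal_of_surjective q hqs
  haveI : HenselianRing B (I.map (algebraMap A B)) := Hensel.henselianRing_of_isIntegral' I B
  haveI : IsLocalRing B := IsLocalRing.of_unique_max_ideal ⟨RingHom.ker q, hm, fun M hM => by
    refine (hm.eq_of_le hM.ne_top ?_).symm
    rw [hker]
    exact le_trans (HenselianRing.jac (I := I.map (algebraMap A B))) (sInf_le ⟨bot_le, hM⟩)⟩
  have hmax : maximalIdeal B = RingHom.ker q := (eq_maximalIdeal hm).symm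
  haveI : HenselianRing B (maximalIdeal B) := by rw [hmax, hker]; infer_instance
  haveI : HenselianLocalRing B := henselianLocalRing_of_henselianRing B
  haveI : IsLocalHom (algebraMap A B) := ((local_hom_TFAE (algebraMap A B)).out 2 0).mp
    (by rw [hmax, hker])
  haveI : Module.FaithfullyFlat A B := Module.FaithfullyFlat.of_flat_of_isLocalHom
  let f : Spec (CommRingCat.of B) ⟶ Spec (CommRingCat.of A) := Spec.map (CommRingCat.ofHom (algebraMap A B))
  have hf₁ : IsFinite f := (IsFinite.SpecMap_iff _).2 (RingHom.finite_algebraMap.2 hB)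
  have hf₂ : Etale f := by
    rw [HasRingHomProperty.Spec_iff (P := @Etale)]
    exact RingHom.etale_algebraMap.2 hBe
  have hf₃ : Surjective f := ⟨PrimeSpectrum.comap_surjective_of_faithfullyFlat⟩
  let ψ : ResidueField B ≃+* k' := (Ideal.quotEquivOfEq hmax).trans (RingHom.quotientKerEquivOfSurjective hqs)
  have hψ : ∀ b, ψ (residue B b) = q b := fun b => rfl
  let v : Spec (CommRingCat.of (ResidueField B)) ⟶ Spec (CommRingCat.of k') :=
    Spec.map (CommRingCat.ofHom (ψ.symm : k' →+* ResidueField B))
  have hv : (v ≫ t ≫ pullback.fst p i₀) ≫ p = Spec.map (CommRingCat.ofHom (residue B)) ≫ f := by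
    simp only [Category.assoc, pullback.condition, reassoc_of% ht, v, i₀, f]
    rw [← Spec.map_comp, ← Spec.map_comp, ← Spec.map_comp]
    congr 1
    ext r
    apply ψ.injective
    show ψ (ψ.symm (algebraMap (ResidueField A) k' (residue A r))) = ψ (residue B (algebraMap A B r))
    rw [RingEquiv.apply_symm_apply, hψ, hq, ← Algebra.TensorProduct.tmul_one_eq_one_tmul]
    exact (φ.commutes (Ideal.Quotient.mk I r)).symm
  have : Smooth (pullback.snd p f) := MorphismProperty.pullback_snd _ _ inferInstance
  obtain ⟨u, hu, -⟩ := HensSec7.exists_section_smooth (pullback.snd p f)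
    (pullback.lift (v ≫ t ≫ pullback.fst p i₀) (Spec.map (CommRingCat.ofHom (residue B))) hv)
    (pullback.lift_snd _ _ _)
  exact ⟨_, f, hf₁, hf₂, hf₃, u ≫ pullback.fst p f, by
    rw [Category.assoc, pullback.condition, reassoc_of% hu]⟩

theorem torsor_isotrivial (A : Type u) [CommRing A] [HenselianLocalRing A]
    {G P : Over (Spec (CommRingCat.of A))} [GrpObj G] [Smooth G.hom] (a : AlgGrp.Action G P)
    (ha : RedSub.IsTorsor a) :
    ∃ (S' : Scheme.{u}) (f : S' ⟶ Spec (CommRingCat.of A)), IsFinite f ∧ Etale f ∧ Surjective f ∧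
      RedSub.HasSection (Red.bc f P) := by
  have : Smooth P.hom := property_of_torsor @Smooth ha inferInstance
  have : Surjective P.hom := ha.1
  obtain ⟨S', f, h₁, h₂, h₃, u, hu⟩ := exists_finite_etale_point P.hom
  exact ⟨S', f, h₁, h₂, h₃, ⟨Over.homMk (pullback.lift u (𝟙 S') (by rw [hu]; exact (Category.id_comp f).symm))
    (pullback.lift_snd _ _ _)⟩⟩

end Groth.Agent.RedTorsorSec
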